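import Mathlib
import Cfsg.Prelude.Def_OddOrderLocal
import Cfsg.Agent.Lib.Lead.BG95.Defs

/-!
PK7 (BURN) of the S1402 team project (lead's note): for `A ∈ SCN(P)`, `A ≠ 1`, in a minimal simple
group of odd order, `[A, N_G(A)] ≠ 1` (Burnside's transfer theorem).
-/

set_option autoImplicit false

namespace Cfsg.Agent.Lib.Helper57.BG95

open Cfsg
open scoped commutatorElement

universe u

/-- Burnside: in a nonabelian simple group no nontrivial Sylow subgroup is central in its
normalizer. -/
theorem not_normalizer_le_centralizer_sylow {G : Type u} [Group G] [Finite G]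
    (hs : IsSimpleGroup G) (hnc : ¬ IsMulCommutative G) {p : ℕ} [Fact p.Prime] (P : Sylow p G)
    (hP : (P : Subgroup G) ≠ ⊥) :
    ¬ Subgroup.normalizer ((P : Subgroup G) : Set G) ≤
      Subgroup.centralizer ((P : Subgroup G) : Set G) := by
  intro hNC
  have hcompl := MonoidHom.ker_transferSylow_isComplement' P hNC
  have hcard := hcompl.card_mul_card
  rcases hs.eq_bot_or_eq_top_of_normal (MonoidHom.transferSylow P hNC).ker inferInstance with
    hk | hk
  · rw [hk, Subgroup.card_bot, one_mul] at hcard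
    have hPtop : (P : Subgroup G) = ⊤ := Subgroup.eq_top_of_card_eq _ hcard
    apply hnc
    refine ⟨⟨fun a b => ?_⟩⟩
    have ha : a ∈ (P : Subgroup G) := by rw [hPtop]; exact Subgroup.mem_top a
    have hb : b ∈ (P : Subgroup G) := by rw [hPtop]; exact Subgroup.mem_top b
    have := hNC (Subgroup.le_normalizer hb)
    rw [Subgroup.mem_centralizer_iff] at this
    exact this a ha
  · rw [hk, Subgroup.card_top] at hcard
    have h1 : Nat.card (P : Subgroup G) = 1 := by
      have hpos : 0 < Nat.card G := Nat.card_pos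
      exact Nat.eq_of_mul_eq_mul_left hpos (by rw [hcard, mul_one])
    exact hP (Subgroup.card_eq_one.mp h1)

/-- **PK7 (BURN).** -/
theorem pk7 : Cfsg.Agent.Lib.Lead.BG95.PK7.{u} := by
  intro G _ _ hG p _ P A hA hA1 hbot
  -- `N(A)` centralizes `A`
  have hNC : Subgroup.normalizer (A : Set G) ≤ Subgroup.centralizer (A : Set G) := by
    intro n hn
    rw [Subgroup.mem_centralizer_iff]
    intro a ha
    have h1 : ⁅a, n⁆ ∈ ⁅A, Subgroup.normalizer (A : Set G)⁆ :=
      Subgroup.commutator_mem_commutator ha hn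
    rw [hbot, Subgroup.mem_bot] at h1
    have h2 : a * n * a⁻¹ * n⁻¹ = 1 := h1
    have h3 : a * n = (a * n * a⁻¹ * n⁻¹) * (n * a) := by group
    rw [h3, h2, one_mul]
  -- `P = A`
  have hPA : (P : Subgroup G) = A := by
    have h1 : (P : Subgroup G) ≤ Subgroup.centralizer (A : Set G) := hA.2.1.trans hNC
    have h2 : (P : Subgroup G) ⊓ Subgroup.centralizer (A : Set G) = (P : Subgroup G) :=
      inf_eq_left.mpr h1
    rw [← h2]; exact hA.2.2
  have hP1 : (P : Subgroup G) ≠ ⊥ := by rw [hPA]; exact hA1
  apply not_normalizer_le_centralizer_sylow hG.2.1 hG.2.2.1 P hP1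
  rw [hPA]
  exact hNC

end Cfsg.Agent.Lib.Helper57.BG95
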